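/-
Subspaces stable under the points are subcomodules (reduced groups); stable subalgebras.
-/
import Mathlib
import Groth.Agent.GLinChar.Units
import Groth.Agent.HopfCartier.Basic
import Groth.Agent.S15702
import Groth.Agent.Comod.Transfer
import Groth.Prelude.Def_ComodSub
import Groth.Prelude.Def_GLin

universe u

noncomputable section

namespace Groth.Agent.GLinZMT

open TensorProduct Groth.Agent.UnitTensor

variable {k : Type u} [Field k] [IsAlgClosed k] {A : Type u} [CommRing A] [HopfAlgebra k A] [Algebra.FiniteType k A]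
  {R : Type u} [CommRing R] [Algebra k R] [HopfRep.Comod k A R] [GLin.IsCoactAlg k A R]

omit [GLin.IsCoactAlg k A R] in
/-- The points detect subcomodules. -/
theorem isSubcomod_of_forall_act [IsReduced A] (W : Submodule k R)
    (h : ∀ (φ : A →ₐ[k] k), ∀ w ∈ W, HopfRep.Comod.act k A R φ w ∈ W) :
    HopfRep.IsSubcomod (k := k) (A := A) W := by
  classical
  intro w hw
  have hex : Function.Exact (W.subtype.rTensor A) (W.mkQ.rTensor A) :=
    rTensor_exact A (LinearMap.exact_subtype_mkQ W) W.mkQ_surjective
  refine (hex _).1 ?_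
  let b := Module.Free.chooseBasis k (R ⧸ W)
  apply (TensorProduct.equivFinsuppOfBasisLeft b).injective
  rw [map_zero]
  ext i
  rw [Finsupp.zero_apply]
  have hzero : ∀ φ : A →ₐ[k] k,
      φ (TensorProduct.equivFinsuppOfBasisLeft b (W.mkQ.rTensor A (HopfRep.Comod.coact (k := k) (A := A) w)) i) = 0 := by
    intro φ
    have key : ∀ t : R ⊗[k] A, φ (TensorProduct.equivFinsuppOfBasisLeft b (W.mkQ.rTensor A t) i) =
        b.repr (W.mkQ (TensorProduct.rid k R (φ.toLinearMap.lTensor R t))) i := by
      intro t
      induction t using TensorProduct.induction_on with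
      | zero => simp
      | tmul x a => simp [mul_comm]
      | add x y hx hy => simp only [map_add, Finsupp.add_apply, hx, hy]
    rw [key]
    have : W.mkQ (HopfRep.Comod.act k A R φ w) = 0 := (Submodule.Quotient.mk_eq_zero W).2 (h φ w hw)
    show b.repr (W.mkQ (HopfRep.Comod.act k A R φ w)) i = 0
    rw [this, map_zero, Finsupp.zero_apply]
  exact (nilpotent_iff_mem_prime.2 fun p hp =>
    haveI := hp; GLinChar.mem_of_forall_point k A fun φ _ => hzero φ).eq_zero

/-- A finite set in a stable subspace lies in a finite dimensional subcomodule inside it. -/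
theorem exists_finite_subcomod_le (W : Submodule k R) (hW : HopfRep.IsSubcomod (k := k) (A := A) W)
    (s : Finset R) (hs : ∀ v ∈ s, v ∈ W) : ∃ V : Submodule k R, (∀ v ∈ s, v ∈ V) ∧ V ≤ W ∧ Module.Finite k V ∧
      HopfRep.IsSubcomod (k := k) (A := A) V := by
  obtain ⟨S, hS, hfin⟩ := Comod.exists_finite_subcomod_finset (K := k) (C := A) s
  let U := Comod.subEquiv k A R ⟨W, hW⟩
  have hU : Comod.ofDSub U = W := Comod.ofDSub_subEquiv W hW
  refine ⟨Comod.ofDSub (S ⊓ U), fun v hv => ⟨hS v hv, ?_⟩, ?_, ?_, Comod.isSubcomod_ofDSub _⟩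
  · have := hs v hv
    rw [← hU] at this
    exact this
  · rw [Comod.ofDSub_inf, hU]; exact inf_le_right
  · haveI := hfin
    exact Submodule.finiteDimensional_of_le (show Comod.ofDSub (S ⊓ U) ≤ Comod.ofDSub S by
      rw [Comod.ofDSub_inf]; exact inf_le_left)

section Subalg

omit [IsAlgClosed k] [Algebra.FiniteType k A]

/-- The subalgebra of elements whose coaction lies in `B ⊗ A`. -/
def stableSub (B : Subalgebra k R) : Subalgebra k R :=
  (Algebra.TensorProduct.map B.val (AlgHom.id k A)).range.comap (GLin.coactAlgHom k A R)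

theorem isSubcomod_toSubmodule (B : Subalgebra k R) (h : B ≤ stableSub (A := A) B) :
    HopfRep.IsSubcomod (k := k) (A := A) (Subalgebra.toSubmodule B) := fun w hw => by
  obtain ⟨t, ht⟩ := h hw
  exact ⟨t, ht⟩

theorem subset_stableSub {B : Subalgebra k R} {V : Submodule k R} (hV : HopfRep.IsSubcomod (k := k) (A := A) V)
    (hle : V ≤ Subalgebra.toSubmodule B) : (V : Set R) ⊆ stableSub (A := A) B := fun v hv => by
  obtain ⟨t, ht⟩ := hV v hv
  refine ⟨(Submodule.inclusion hle).rTensor A t, ?_⟩
  show _ = GLin.coactAlgHom k A R v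
  rw [GLin.coactAlgHom_apply, ← ht]
  clear ht
  induction t using TensorProduct.induction_on with
  | zero => simp
  | tmul x y => rfl
  | add x y hx hy => simp only [map_add]; rw [← hx, ← hy]

end Subalg

end Groth.Agent.GLinZMT
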