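/-
Equivariant Zariski main theorem for affine schemes.
-/
import Mathlib
import Groth.Agent.GLinZMT.Stable
import Groth.Agent.Weighting.ZMTFP

universe u

noncomputable section

namespace Groth.Agent.GLinZMT

open TensorProduct

/-- Localisations of intermediate algebras agree. -/
theorem surjective_awayMap_of_le {R S : Type u} [CommRing R] [CommRing S] [Algebra R S] {B' B : Subalgebra R S}
    (h : B' ≤ B) (r : B') (hb : Function.Surjective (Localization.awayMap B'.val.toRingHom r)) :
    Function.Surjective (Localization.awayMap B.val.toRingHom (Subalgebra.inclusion h r)) := by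
  intro y
  obtain ⟨x, hx⟩ := hb y
  obtain ⟨a, ⟨_, n, rfl⟩, rfl⟩ := IsLocalization.exists_mk'_eq (Submonoid.powers r) x
  refine ⟨IsLocalization.mk' _ (Subalgebra.inclusion h a)
    (⟨Subalgebra.inclusion h r ^ n, n, rfl⟩ : Submonoid.powers (Subalgebra.inclusion h r)), ?_⟩
  rw [← hx]
  simp only [Localization.awayMap, IsLocalization.Away.map, IsLocalization.map_mk']
  rfl

theorem exists_factorization (k : Type u) [Field k] [IsAlgClosed k]
    (A : Type u) [CommRing A] [HopfAlgebra k A] [Algebra.FiniteType k A] [IsReduced A]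
    (S : Type u) [CommRing S] [Algebra k S] [Algebra.FiniteType k S] [HopfRep.Comod k A S] [GLin.IsCoactAlg k A S]
    (R : Type u) [CommRing R] [Algebra k R] [Algebra.FiniteType k R] [HopfRep.Comod k A R] [GLin.IsCoactAlg k A R]
    [Algebra S R] [IsScalarTower k S R] [Algebra.QuasiFinite S R]
    (hequiv : (∀ s : S, HopfRep.Comod.coact (k := k) (A := A) (algebraMap S R s) =
      Algebra.TensorProduct.map (IsScalarTower.toAlgHom k S R) (AlgHom.id k A) (HopfRep.Comod.coact (k := k) (A := A) s))) :
    ∃ (B : Type u) (_ : CommRing B) (_ : Algebra k B) (_ : HopfRep.Comod k A B) (_ : GLin.IsCoactAlg k A B),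
      Algebra.FiniteType k B ∧
      ∃ (ψ : S →ₐ[k] B) (i : B →ₐ[k] R),
        (∀ s : S, HopfRep.Comod.coact (k := k) (A := A) (ψ s) =
        Algebra.TensorProduct.map ψ (AlgHom.id k A) (HopfRep.Comod.coact (k := k) (A := A) s)) ∧
        (∀ s : B, HopfRep.Comod.coact (k := k) (A := A) (i s) =
        Algebra.TensorProduct.map i (AlgHom.id k A) (HopfRep.Comod.coact (k := k) (A := A) s)) ∧
        i.comp ψ = IsScalarTower.toAlgHom k S R ∧ ψ.toRingHom.Finite ∧
        AlgebraicGeometry.IsOpenImmersion (AlgebraicGeometry.Spec.map (CommRingCat.ofHom i.toRingHom)) := by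
  classical
  haveI : Algebra.FiniteType S R := Algebra.FiniteType.of_restrictScalars_finiteType k S R
  -- the integral closure is stable under the points
  let C : Subalgebra S R := integralClosure S R
  have hCact : ∀ (φ : A →ₐ[k] k), ∀ w ∈ C, HopfRep.Comod.act k A R φ w ∈ C := by
    intro φ w hw
    let σ : S →+* S := ((UnitTensor.spec φ).comp (GLin.coactAlgHom k A S)).toRingHom
    let τ : R →+* R := ((UnitTensor.spec φ).comp (GLin.coactAlgHom k A R)).toRingHom
    have hcomm : (algebraMap S R).comp σ = τ.comp (algebraMap S R) := RingHom.ext fun s => by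
      show algebraMap S R (UnitTensor.spec φ (GLin.coactAlgHom k A S s)) =
        UnitTensor.spec φ (GLin.coactAlgHom k A R (algebraMap S R s))
      rw [GLin.coactAlgHom_apply, GLin.coactAlgHom_apply, hequiv]
      generalize HopfRep.Comod.coact (k := k) (A := A) s = t
      induction t using TensorProduct.induction_on with
      | zero => simp
      | tmul x a => simp [map_smul, IsScalarTower.coe_toAlgHom', Algebra.smul_def, ← IsScalarTower.algebraMap_apply]
      | add x y hx hy => simp only [map_add, hx, hy]
    rw [S15702.act_eq_spec]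
    exact IsIntegral.map_of_comp_eq σ τ hcomm hw
  have hCsub : HopfRep.IsSubcomod (k := k) (A := A) (C.toSubmodule.restrictScalars k) :=
    isSubcomod_of_forall_act _ hCact
  -- Zariski's main theorem at every prime
  have hz : ∀ q : PrimeSpectrum R, ∃ S' : Subalgebra S R, S'.toSubmodule.FG ∧ ∃ r : S',
      r.1 ∉ q.asIdeal ∧ Function.Bijective (Localization.awayMap S'.val.toRingHom r) := fun q =>
    Algebra.QuasiFiniteAt.exists_fg_and_exists_notMem_and_awayMap_bijective q.asIdeal
  choose S' hS'fg r hrq hbij using hz
  obtain ⟨t, ht⟩ := isCompact_univ.elim_finite_subcover (fun q => (PrimeSpectrum.basicOpen (r q).1 : Set (PrimeSpectrum R)))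
    (fun q => (PrimeSpectrum.basicOpen (r q).1).isOpen) (fun q _ => Set.mem_iUnion.2 ⟨q, hrq q⟩)
  choose g hg using fun q => hS'fg q
  have hgC : ∀ v ∈ t.biUnion g, v ∈ C.toSubmodule.restrictScalars k := fun v hv => by
    obtain ⟨q, -, hv⟩ := Finset.mem_biUnion.1 hv
    have hmem : v ∈ (S' q).toSubmodule := by rw [← hg q]; exact Submodule.subset_span hv
    exact IsIntegral.of_mem_of_fg (S' q) (hS'fg q) v hmem
  obtain ⟨V, hgV, hVC, hVfin, hVsub⟩ := exists_finite_subcomod_le _ hCsub _ hgC
  obtain ⟨T, hT⟩ : V.FG := (Submodule.fg_iff_finiteDimensional V).2 hVfin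
  let B₀ : Subalgebra S R := Algebra.adjoin S (V : Set R)
  have hB₀ : B₀ = Algebra.adjoin S (T : Set R) := by
    exact le_antisymm (Algebra.adjoin_le fun v hv =>
        (Submodule.span_le (p := (Algebra.adjoin S (T : Set R)).toSubmodule.restrictScalars k)).2
          Algebra.subset_adjoin (hT.ge hv))
      (Algebra.adjoin_mono (hT ▸ Submodule.subset_span))
  have hfin : Module.Finite S B₀ := by
    rw [hB₀]
    exact Module.Finite.iff_fg.2 (fg_adjoin_of_finite T.finite_toSet fun v hv =>
      hVC (hT ▸ Submodule.subset_span hv))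
  let B : Subalgebra k R := B₀.restrictScalars k
  let ψ : S →ₐ[k] B := (IsScalarTower.toAlgHom k S R).codRestrict B fun s => B₀.algebraMap_mem s
  have hBsub : HopfRep.IsSubcomod (k := k) (A := A) (Subalgebra.toSubmodule B) := by
    refine isSubcomod_toSubmodule B fun x hx => ?_
    induction (show x ∈ Algebra.adjoin S (V : Set R) from hx) using Algebra.adjoin_induction with
    | mem v hv => exact subset_stableSub hVsub (fun w hw => Algebra.subset_adjoin hw) hv
    | algebraMap s =>
      refine ⟨Algebra.TensorProduct.map ψ (AlgHom.id k A)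
        (HopfRep.Comod.coact (k := k) (A := A) s), ?_⟩
      show Algebra.TensorProduct.map B.val (AlgHom.id k A) _ = GLin.coactAlgHom k A R (algebraMap S R s)
      rw [GLin.coactAlgHom_apply, hequiv]
      generalize HopfRep.Comod.coact (k := k) (A := A) s = u
      induction u using TensorProduct.induction_on with
      | zero => simp
      | tmul x a => rfl
      | add x y hx hy => simp only [map_add, hx, hy]
    | add x y hx' hy' h1 h2 => exact add_mem (h1 hx') (h2 hy')
    | mul x y hx' hy' h1 h2 => exact mul_mem (h1 hx') (h2 hy')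
  letI cB : HopfRep.Comod k A B :=
    ComodSub.Comod.restr (inferInstance : HopfRep.Comod k A R) (Subalgebra.toSubmodule B) hBsub
  let Φ : B ⊗[k] A →ₐ[k] R ⊗[k] A := Algebra.TensorProduct.map B.val (AlgHom.id k A)
  have hΦ : Function.Injective Φ := ComodSub.rTensor_subtype_injective (A := A) (Subalgebra.toSubmodule B)
  have hco : ∀ x : B, Φ (HopfRep.Comod.coact (k := k) (A := A) x) = HopfRep.Comod.coact (k := k) (A := A) (x : R) :=
    fun x => ComodSub.restr_coact_coe (inferInstance : HopfRep.Comod k A R) (Subalgebra.toSubmodule B) hBsub x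
  haveI : GLin.IsCoactAlg k A B :=
    { coact_one := hΦ (by rw [hco, map_one, OneMemClass.coe_one, GLin.IsCoactAlg.coact_one])
      coact_mul := fun f g => hΦ (by rw [hco, map_mul, hco, hco, Subalgebra.coe_mul, GLin.IsCoactAlg.coact_mul]) }
  have hBft : Algebra.FiniteType k B :=
    haveI : Algebra.FiniteType S B₀ := inferInstance
    show Algebra.FiniteType k B₀ from Algebra.FiniteType.trans (S := S) inferInstance inferInstance
  refine ⟨B, inferInstance, inferInstance, cB, inferInstance, hBft, ψ, B.val, fun s => hΦ ?_, fun x => (hco x).symm,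
    rfl, (RingHom.finite_algebraMap.2 hfin : (algebraMap S B₀).Finite), ?_⟩
  · rw [hco, show ((ψ s : B) : R) = algebraMap S R s from rfl, hequiv]
    generalize HopfRep.Comod.coact (k := k) (A := A) s = u
    induction u using TensorProduct.induction_on with
    | zero => simp
    | tmul x a => rfl
    | add x y hx hy => simp only [map_add, hx, hy]
  · have hle : ∀ q ∈ t, S' q ≤ B₀ := fun q hq v hv => by
      have hv' : v ∈ (S' q).toSubmodule := hv
      rw [← hg q] at hv'
      exact (show Submodule.span S (g q : Set R) ≤ B₀.toSubmodule from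
        Submodule.span_le.2 fun w hw => Algebra.subset_adjoin (hgV w (Finset.mem_biUnion.2 ⟨q, hq, hw⟩))) hv'
    let e := t.equivFin.symm
    refine Weighting.isOpenImmersion_Spec_of_awayMap_bijective (n := t.card) B.val.toRingHom
      (fun i => Subalgebra.inclusion (hle _ (e i).2) (r (e i).1)) (fun p => ?_) fun i => ⟨?_, ?_⟩
    · obtain ⟨q, hq, hp⟩ := Set.mem_iUnion₂.1 (ht (Set.mem_univ p))
      exact ⟨e.symm ⟨q, hq⟩, by rw [Equiv.apply_symm_apply]; exact hp⟩
    · exact IsLocalization.map_injective_of_injective _ _ _ Subtype.val_injective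
    · exact surjective_awayMap_of_le (hle _ (e i).2) (r (e i).1) (hbij _).2

end Groth.Agent.GLinZMT
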